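import Cfsg.Agent.H571.RV.Pred

/-!
# `FHall` and `DB` give `C_π` (helper959, TEAM RV)

* `cpi_of_fhall` : `DB π S` and `FHall π S` give `C_π` (the abelian Hall `(π \ {r})`-subgroups are conjugate by Wielandt's
  theorem);
* `famRow_of_fhall` : the family row.
-/

set_option autoImplicit false

namespace Cfsg.Agent.H959.RV

open Subgroup Cfsg Cfsg.Agent.H988.CPi Cfsg.Agent.Solvable.SZ Cfsg.Agent.H571.DExt Cfsg.Agent.H571.RV
open scoped Pointwise

variable {π : Set ℕ} {S : Type*} [Group S]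

/-- the data of `FHall` for one subgroup -/
structure FH (π : Set ℕ) (r : ℕ) (H A : Subgroup S) : Prop where
  hall : IsPiHall π H
  le : A ≤ H
  norm : H ≤ normalizer (A : Set S)
  comm : ∀ a ∈ A, ∀ b ∈ A, a * b = b * a
  odd : ¬ r ∣ Nat.card A
  quot : ∀ p : ℕ, p.Prime → p ∣ A.relIndex H → p = r

theorem FH.map {r : ℕ} {H A : Subgroup S} (h : FH π r H A) (α : MulAut S) :
    FH π r (H.map (α : S ≃* S).toMonoidHom) (A.map (α : S ≃* S).toMonoidHom) := by
  have hinj : Function.Injective (α : S ≃* S).toMonoidHom := (α : S ≃* S).injective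
  have hcard : ∀ X : Subgroup S, Nat.card (X.map (α : S ≃* S).toMonoidHom) = Nat.card X := fun X =>
    (Nat.card_congr (X.equivMapOfInjective (α : S ≃* S).toMonoidHom hinj).toEquiv).symm
  refine ⟨⟨?_, ?_⟩, map_mono h.le, ?_, ?_, ?_, ?_⟩
  · intro p hp hd
    rw [hcard] at hd
    exact h.hall.1 p hp hd
  · intro p hp hpπ hd
    rw [show (H.map (α : S ≃* S).toMonoidHom).index = H.index from Subgroup.index_map_equiv H α] at hd
    exact h.hall.2 p hp hpπ hd
  · rintro _ ⟨x, hx, rfl⟩
    rw [mem_normalizer_iff]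
    intro g
    have h1 := mem_normalizer_iff.mp (h.norm hx) ((α : S ≃* S).symm g)
    constructor
    · rintro ⟨a, ha, rfl⟩
      have h2 := (mem_normalizer_iff.mp (h.norm hx) a).mp ha
      exact ⟨_, h2, by simp⟩
    · rintro ⟨a, ha, hag⟩
      have h2 : a = x * (α : S ≃* S).symm g * x⁻¹ := by
        apply (α : S ≃* S).injective
        have h3 : (α : S ≃* S) a = (α : S ≃* S) x * g * ((α : S ≃* S) x)⁻¹ := hag
        rw [h3]; simp
      rw [h2] at ha
      exact ⟨_, h1.mpr ha, by simp⟩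
  · rintro _ ⟨a, ha, rfl⟩ _ ⟨b, hb, rfl⟩
    rw [← map_mul, h.comm a ha b hb, map_mul]
  · rw [hcard]; exact h.odd
  · intro p hp hd
    rw [relIndex_map_map_of_injective A H hinj] at hd
    exact h.quot p hp hd

variable [Finite S]

omit [Finite S] in
theorem FH.hall_odd {r : ℕ} {H A : Subgroup S} (h : FH π r H A) : IsPiHall (π \ {r}) A := by
  refine ⟨?_, ?_⟩
  · intro p hp hd
    refine ⟨h.hall.1 p hp (hd.trans (card_dvd_of_le h.le)), ?_⟩
    rintro rfl
    exact h.odd hd
  · intro p hp hpπ hd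
    have h1 := relIndex_mul_index h.le
    rw [← h1] at hd
    rcases hp.dvd_mul.mp hd with hd | hd
    · exact hpπ.2 (h.quot p hp hd)
    · exact h.hall.2 p hp hpπ.1 hd

theorem FH.norm_cpi {r : ℕ} (hr : r.Prime) {H A : Subgroup S} (h : FH π r H A) :
    IsCPiGroup π (normalizer (A : Set S) : Subgroup S) := by
  set N := (normalizer (A : Set S) : Subgroup S) with hN
  have hAN : A ≤ N := le_normalizer
  have hn : (A.subgroupOf N).Normal := normal_in_normalizer
  have hH : IsPiHall π (H.subgroupOf N) := by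
    refine ⟨?_, ?_⟩
    · have h1 : PiN π (Nat.card (H.subgroupOf N)) := by rw [card_subgroupOf _ _ h.norm]; exact h.hall.1
      exact h1
    · have h1 : PiN' π (H.subgroupOf N).index := by
        refine PiN'.of_dvd h.hall.2 ⟨N.index, ?_⟩
        exact (relIndex_mul_index h.norm).symm
      exact h1
  have := Fact.mk hr
  refine cpi_extension (A.subgroupOf N) ?_ ?_
  · -- `A` is abelian
    have h1 : IsPiHall π (⊤ : Subgroup (A.subgroupOf N)) := by
      refine PiGrp.hall ?_
      show PiN π (Nat.card (A.subgroupOf N))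
      rw [card_subgroupOf _ _ hAN]
      exact PiN.of_dvd h.hall.1 (card_dvd_of_le h.le)
    have hc : ∀ x y : A.subgroupOf N, x * y = y * x := by
      rintro ⟨⟨x, hx⟩, hx'⟩ ⟨⟨y, hy⟩, hy'⟩
      exact Subtype.ext (Subtype.ext (h.comm x hx' y hy'))
    have hnil : Group.IsNilpotent (⊤ : Subgroup (A.subgroupOf N)) := by
      let i : CommGroup (⊤ : Subgroup (A.subgroupOf N)) :=
        { (inferInstance : Group (⊤ : Subgroup (A.subgroupOf N))) with
          mul_comm := fun x y => Subtype.ext (hc x y) }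
      exact CommGroup.isNilpotent
    exact (dom_of_nilpotent h1 hnil).cpi
  · -- `H / A` is an `r`-group
    have h1 := isPiHall_map_mk hH (A.subgroupOf N)
    refine (dom_of_nilpotent h1 ?_).cpi
    have hp : IsPGroup r ((H.subgroupOf N).map (QuotientGroup.mk' (A.subgroupOf N))) := by
      rw [IsPGroup.iff_card]
      have h3 : ∀ p : ℕ, p.Prime →
          p ∣ Nat.card ((H.subgroupOf N).map (QuotientGroup.mk' (A.subgroupOf N))) → p = r := by
        intro p hp hd
        apply h.quot p hp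
        have h4 : Nat.card ((H.subgroupOf N).map (QuotientGroup.mk' (A.subgroupOf N))) = A.relIndex H := by
          have h5 : (A.subgroupOf N).relIndex (H.subgroupOf N) = A.relIndex H :=
            relIndex_subgroupOf h.norm
          have h6 : ((A.subgroupOf N).relIndex (H.subgroupOf N)) =
              Nat.card ((H.subgroupOf N).map (QuotientGroup.mk' (A.subgroupOf N))) := by
            have := relIndex_ker (H.subgroupOf N) (QuotientGroup.mk' (A.subgroupOf N))
            rwa [QuotientGroup.ker_mk'] at this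
          rw [← h6, h5]
        rwa [h4] at hd
      exact ⟨_, Nat.eq_prime_pow_of_unique_prime_dvd Nat.card_pos.ne' fun {p} hp hd => h3 p hp hd⟩
    exact hp.isNilpotent

/-- **`C_π` from `FHall`.** -/
theorem cpi_of_fhall (hDB : DB π S) (h : FHall π S) : IsCPiGroup π S := by
  obtain ⟨r, hr, H₀, A₀, h1, h1', h3, h4, h5, h6⟩ := h
  have h₀ : FH π r H₀ A₀ := ⟨h1, h1', h3, h4, h5, h6⟩
  obtain ⟨𝒜, -, htr, -⟩ := hDB.out
  refine ⟨⟨H₀, h1⟩, fun H K hH hK => ?_⟩
  obtain ⟨α, -, rfl⟩ := htr H₀ H h1 hH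
  obtain ⟨β, -, rfl⟩ := htr H₀ K h1 hK
  have hα := h₀.map α
  have hβ := h₀.map β
  -- Wielandt
  have hnil : Group.IsNilpotent (A₀.map (α : S ≃* S).toMonoidHom) := by
    let i : CommGroup (A₀.map (α : S ≃* S).toMonoidHom) :=
      { (inferInstance : Group (A₀.map (α : S ≃* S).toMonoidHom)) with
        mul_comm := fun x y => Subtype.ext (hα.comm _ x.2 _ y.2) }
    exact CommGroup.isNilpotent
  obtain ⟨g, hg⟩ := (dom_of_nilpotent hα.hall_odd hnil).cpi.2 _ _ hα.hall_odd hβ.hall_odd
  have hα' := hα.map (MulAut.conj g)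
  have hAe : (A₀.map (α : S ≃* S).toMonoidHom).map ((MulAut.conj g : MulAut S) : S ≃* S).toMonoidHom =
      A₀.map (β : S ≃* S).toMonoidHom := hg.symm
  rw [hAe] at hα'
  obtain ⟨n, -, hn⟩ := conj_of_cpi (hβ.norm_cpi hr) hα'.norm hβ.norm hα'.hall.1
    (PiN'.of_dvd hα'.hall.2 ⟨_, (relIndex_mul_index hα'.norm).symm⟩) hβ.hall.1
    (PiN'.of_dvd hβ.hall.2 ⟨_, (relIndex_mul_index hβ.norm).symm⟩)
  refine ⟨n * g, ?_⟩
  rw [conj_eq, map_mul, mul_smul, ← conj_eq g]
  exact hn.symm

/-- the family row of box R3 -/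
theorem famRow_of_fhall (h : DB π S → PiGrp π S ∨ FHall π S) : FamRow π S := fun hDB =>
  (h hDB).imp id fun h1 => ⟨cpi_of_fhall hDB h1, h1⟩

end Cfsg.Agent.H959.RV
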