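import Cfsg.Agent.H959.RV.Two
import Cfsg.Agent.H959.RV.FH
import Cfsg.Agent.H571.RV.FHallE
import Cfsg.Agent.H808.RV.Iso
import Cfsg.Agent.OddHalf.Known

/-!
# TEAM RV: the rows of S4322 and S3850 over the list of simple groups (helper959)

* `Fam p S B` : a proof of `B` for every family of Lie type in characteristic `p`; `Fam.elim`;
* `Boxes π S` : the boxes R1-R6 for one simple group `S`;
* `rows_of_boxes` : `RowN π S ∧ RowE π S`.
-/

set_option autoImplicit false

namespace Cfsg.Agent.H959.RV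

open Subgroup Cfsg Cfsg.Agent.H988.CPi Cfsg.Agent.H571.DExt Cfsg.Agent.H571.RV
open scoped Pointwise

universe u

/-- `B` for every family of groups of Lie type in characteristic `p` -/
structure Fam (p : ℕ) (S : Type u) [Group S] (B : Prop) : Prop where
  psl : IsPSLChar p S → B
  psp : IsPSpChar p S → B
  psu : IsPSUChar p S → B
  oOdd : IsPOmegaOddChar p S → B
  oPlus : IsPOmegaPlusChar p S → B
  oMinus : IsPOmegaMinusChar p S → B
  g2 : ∀ (F : Type) [Field F] [Fintype F] [CharP F p], 3 ≤ Fintype.card F →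
    Nonempty (S ≃* Lie.chevG2.group F) → B
  f4 : ∀ (F : Type) [Field F] [Fintype F] [CharP F p], Nonempty (S ≃* Lie.chevF4.group F) → B
  e6 : ∀ (F : Type) [Field F] [Fintype F] [CharP F p], Nonempty (S ≃* Lie.chevE6.group F) → B
  e7 : ∀ (F : Type) [Field F] [Fintype F] [CharP F p], Nonempty (S ≃* Lie.chevE7.group F) → B
  e8 : ∀ (F : Type) [Field F] [Fintype F] [CharP F p], Nonempty (S ≃* Lie.chevE8.group F) → B
  tw : ∀ (F : Type) [Field F] [Fintype F] [CharP F p] (q : ℕ), IsPrimePow q → Fintype.card F = q ^ 2 →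
    Nonempty (S ≃* Lie.twistedE6 F q) → B
  d4 : ∀ (F : Type) [Field F] [Fintype F] [CharP F p] (q : ℕ), IsPrimePow q → Fintype.card F = q ^ 3 →
    Nonempty (S ≃* Lie.twistedD4 F q) → B
  sz : p = 2 → Lie.IsoSuzuki S → B
  f2 : p = 2 → Lie.Iso2F4 S → B
  ree : p = 3 → Lie.IsoRee S → B

theorem Fam.elim {p : ℕ} {S : Type u} [Group S] {B : Prop} (R : Fam p S B) (h : IsLieTypeChar p S) : B := by
  rcases h with h | h | h | h | h | h | h | h | h | h | h
  · exact R.psl h
  · exact R.psp h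
  · exact R.psu h
  · exact R.oOdd h
  · exact R.oPlus h
  · exact R.oMinus h
  · obtain ⟨F, iF, iFt, iC, h⟩ := h
    rcases h with ⟨h3, h⟩ | h | h | h | h
    · exact R.g2 F h3 h
    · exact R.f4 F h
    · exact R.e6 F h
    · exact R.e7 F h
    · exact R.e8 F h
  · obtain ⟨F, iF, iFt, iC, q, hq, h⟩ := h
    rcases h with ⟨hF, h⟩ | ⟨hF, h⟩
    · exact R.tw F q hq hF h
    · exact R.d4 F q hq hF h
  · exact R.sz h.1 h.2
  · exact R.f2 h.1 h.2
  · exact R.ree h.1 h.2

/-- conclusion of box R3 (`FTwo.fhall`, `H808.RV.fhall_of_onePrime` for the other forms) -/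
def Out3 (π : Set ℕ) (S : Type u) [Group S] : Prop := PiGrp π S ∨ FHall π S

/-- the boxes for one simple group -/
structure Boxes (π : Set ℕ) (S : Type u) [Group S] : Prop where
  /-- alternating groups (R7), the Tits group and the sporadic groups (R6) -/
  other : IsAlternating S ∨ Lie.IsoTits S ∨ IsSporadicGroup S → RowN π S ∧ RowE π S
  /-- R1 -/
  r1 : 2 ∉ π → ∀ p : ℕ, p.Prime → p ∈ π → IsLieTypeChar p S → RowE π S
  /-- R2 -/
  r2 : 2 ∉ π → ∀ p : ℕ, p.Prime → p ∉ π → IsLieTypeChar p S → Dom π S → FHall π S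
  /-- R3 -/
  r3 : 2 ∈ π → 3 ∉ π → ∀ p : ℕ, p.Prime → p ∉ π → IsLieTypeChar p S → DB π S → Out3 π S
  /-- R4 -/
  r4 : 2 ∈ π → ∀ p : ℕ, p.Prime → p ∈ π → IsLieTypeChar p S → DB π S → PiGrp π S ∨ OnePrime π S
  /-- R5 -/
  r5 : 2 ∈ π → 3 ∈ π → ∀ p : ℕ, p.Prime → p ∉ π → IsLieTypeChar p S → ¬ DB π S

variable {π : Set ℕ} {S : Type u} [Group S] [Finite S]

omit [Finite S] in
/-- simple nonabelian groups have trivial centre -/
theorem center_eq_bot_of_simple [IsSimpleGroup S] (hna : ¬ IsMulCommutative S) : Subgroup.center S = ⊥ := by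
  rcases (inferInstance : (Subgroup.center S).Normal).eq_bot_or_eq_top with h | h
  · exact h
  · exact absurd (⟨⟨fun a b => by
      have : b ∈ Subgroup.center S := by rw [h]; trivial
      exact Subgroup.mem_center_iff.mp this a⟩⟩ : IsMulCommutative S) hna

/-- a family row gives both rows -/
theorem rows_of_famRow (hc : Subgroup.center S = ⊥) (hout : Group.IsSolvable (MulAut S ⧸ inn S))
    (h : FamRow π S) : RowN π S ∧ RowE π S := by
  refine ⟨h.rowN, ?_⟩
  intro hD
  rcases h (DB.of_dom hD) with h1 | h1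
  · exact H808.RV.rowE_of_pi h1 hD
  · exact rowE_of_fhall hc hout (fun _ => h1.2) hD

/-- **the rows from the boxes** -/
theorem rows_of_boxes [IsSimpleGroup S] (hna : ¬ IsMulCommutative S)
    (hout : Group.IsSolvable (MulAut S ⧸ inn S))
    (hodd : ∀ (σ : Set ℕ), 2 ∉ σ → ∀ H K : Subgroup S, IsPiHall σ H → IsPiHall σ K → ∃ g : S, K = MulAut.conj g • H)
    (hK : IsKnownSimple' S) (B : Boxes π S) : RowN π S ∧ RowE π S := by
  have hc := center_eq_bot_of_simple hna
  -- Lie type
  have lie : ∀ p : ℕ, p.Prime → IsLieTypeChar p S → RowN π S ∧ RowE π S := by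
    intro p hp hL
    by_cases h2 : 2 ∈ π
    · by_cases hpπ : p ∈ π
      · refine rows_of_famRow hc hout fun hDB => ?_
        rcases B.r4 h2 p hp hpπ hL hDB with h | h
        · exact Or.inl h
        · exact Or.inr ⟨H808.RV.cpi_of_onePrime h, H808.RV.fhall_of_onePrime h⟩
      · by_cases h3 : 3 ∈ π
        · exact rows_of_famRow hc hout fun hDB => absurd hDB (B.r5 h2 h3 p hp hpπ hL)
        · exact rows_of_famRow hc hout (famRow_of_fhall (B.r3 h2 h3 p hp hpπ hL))
    · refine ⟨fun hDB => ?_, ?_⟩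
      · obtain ⟨L, hL, -⟩ := hDB.dom ⊥ (by
          intro p hp hd
          rw [Subgroup.card_bot] at hd
          exact absurd (Nat.dvd_one.mp hd) hp.one_lt.ne')
        refine ⟨⟨L, hL⟩, fun H K hH hK => ?_⟩
        obtain ⟨g, hg⟩ := hodd π h2 H K hH hK
        exact ⟨g, by rw [conj_eq]; exact hg⟩
      · by_cases hpπ : p ∈ π
        · exact B.r1 h2 p hp hpπ hL
        · exact rowE_of_fhall hc hout (B.r2 h2 p hp hpπ hL)
  rcases Cfsg.Agent.OddHalf.Known.classify' hna hK with h | ⟨p, hp, h⟩ | h | h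
  · exact B.other (Or.inl h)
  · exact lie p hp h
  · exact B.other (Or.inr (Or.inl h))
  · exact B.other (Or.inr (Or.inr h))

end Cfsg.Agent.H959.RV
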