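import Cfsg.Agent.H959.RV.Boxes
import Cfsg.Agent.H537.RV.R1Lie
import Cfsg.Agent.H948.RV.RFourLie
import Cfsg.Agent.H556.FHallOmega
import Cfsg.Agent.H554.RV.Uni
import Cfsg.Agent.H167.RV.RowsA
import Cfsg.Agent.H167.RV.TorE
import Cfsg.Agent.H167.RV.TorG
import Cfsg.Agent.H971.RV.Rows
import Cfsg.Agent.H554.RX.RowSix
import Cfsg.Agent.H550.RX.FinD
import Cfsg.Agent.H550.RX.FinE
import Cfsg.Agent.H171.RV.R6
import Cfsg.Agent.H167.RV.Suz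
import Cfsg.Agent.H555.RV.Ree
import Cfsg.Agent.H572.RV.Rows
import Cfsg.Agent.H553.RV.LinH
import Cfsg.Agent.H557.RV.G2
import Cfsg.Agent.H550.RV.R3Small
import Cfsg.Agent.H574.RV.Rows
import Cfsg.Agent.H558.RV.Rows
import Cfsg.Agent.H170.RV.OmR5
import Cfsg.Agent.H641.RV.Main

/-!
# TEAM RV: the boxes for every simple group (helper959)
-/

set_option autoImplicit false

namespace Cfsg.Agent.H959.RV

open Subgroup Cfsg Cfsg.Agent.H988.CPi Cfsg.Agent.H571.DExt Cfsg.Agent.H571.RV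

universe u

variable {π : Set ℕ} {S : Type u} [Group S]

variable [Finite S]

theorem epi_of_dom (h : Dom π S) : IsEPiGroup π S := h.cpi.1

omit [Finite S] in
theorem epi_of_DB (h : DB π S) : IsEPiGroup π S := by
  obtain ⟨L, hL, -⟩ := h.dom ⊥ (by
    intro p hp hd
    rw [Subgroup.card_bot] at hd
    exact absurd (Nat.dvd_one.mp hd) hp.one_lt.ne')
  exact ⟨L, hL⟩

/-- R2 -/
theorem fam2 [IsSimpleGroup S] (h2 : 2 ∉ π) {p : ℕ} (hpπ : p ∉ π) :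
    Fam p S (Dom π S → FHall π S) where
  psl := H553.RV.rowR2_psl hpπ h2
  psp := fun h hD => H572.RV.fhall_psp h h2 hpπ (epi_of_dom hD)
  psu := H553.RV.rowR2_psu hpπ h2
  oOdd := fun h hD => H572.RV.fhall_pomegaOdd h h2 hpπ (epi_of_dom hD)
  oPlus := fun h hD => H572.RV.fhall_pomegaPlus h h2 hpπ (epi_of_dom hD)
  oMinus := fun h hD => H572.RV.fhall_pomegaMinus h h2 hpπ (epi_of_dom hD)
  g2 := fun _ _ _ _ _ ⟨e⟩ hD => H167.RV.fhall_g2 h2 hpπ (epi_of_dom hD) e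
  f4 := fun _ _ _ _ ⟨e⟩ hD => H167.RV.fhall_f4 h2 hpπ (epi_of_dom hD) e
  e6 := fun _ _ _ _ ⟨e⟩ hD => H167.RV.fhall_e6 h2 hpπ (epi_of_dom hD) e
  e7 := fun _ _ _ _ ⟨e⟩ hD => H167.RV.fhall_e7 h2 hpπ (epi_of_dom hD) e
  e8 := fun _ _ _ _ ⟨e⟩ hD => H167.RV.fhall_e8 h2 hpπ (epi_of_dom hD) e
  tw := fun _ _ _ _ _ hq hF ⟨e⟩ hD => H167.RV.fhall_2E6 hq h2 hpπ (epi_of_dom hD) hF e
  d4 := fun _ _ _ _ _ hq hF ⟨e⟩ hD => H167.RV.fhall_3D4 hq h2 hpπ (epi_of_dom hD) hF e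
  sz := fun _ h hD => H167.RV.fhall_suz h2 (epi_of_dom hD) h
  f2 := fun _ h hD => H167.RV.fhall_2F4 h2 (epi_of_dom hD) h
  ree := fun hp3 h hD => H167.RV.fhall_ree h2 (epi_of_dom hD) (hp3 ▸ hpπ) h

/-- R3 -/
theorem fam3 (h2 : 2 ∈ π) (h3 : 3 ∉ π) {p : ℕ} (hp : p.Prime) (hpπ : p ∉ π) :
    Fam p S (DB π S → Out3 π S) where
  psl := fun h hD => Or.inr (H558.RV.fhall_psl h2 h3 (epi_of_DB hD) p hp hpπ h)
  psp := fun h hD => Or.inr (H558.RV.fhall_psp h2 h3 (epi_of_DB hD) p hp hpπ h)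
  psu := fun h hD => Or.inr (H558.RV.fhall_psu h2 h3 (epi_of_DB hD) p hp hpπ h)
  oOdd := fun h hD => Or.inr (H556.Om.fhall_oOdd h2 h3 (epi_of_DB hD) p hp hpπ h)
  oPlus := fun h hD => Or.inr (H556.Om.fhall_oPlus h2 h3 (epi_of_DB hD) p hp hpπ h)
  oMinus := fun h hD => Or.inr (H556.Om.fhall_oMinus h2 h3 (epi_of_DB hD) p hp hpπ h)
  g2 := fun F => H550.RV.r3_g2 h2 h3 hp hpπ F
  f4 := fun F _ _ _ h hD => Or.inr (H550.RX.f4_3 h2 h3 p hp hpπ F h (epi_of_DB hD)).fhall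
  e6 := fun F _ _ _ h hD => Or.inr (H554.RX.e6_3 h2 h3 p hp hpπ F h (epi_of_DB hD)).fhall
  e7 := fun F _ _ _ h hD => Or.inr (H550.RX.e7_3 h2 h3 p hp hpπ F h (epi_of_DB hD)).fhall
  e8 := fun F _ _ _ h hD => Or.inr (H550.RX.e8_3 h2 h3 p hp hpπ F h (epi_of_DB hD)).fhall
  tw := fun F _ _ _ q hq hF h hD => Or.inr (H554.RX.tw_3 h2 h3 p hp hpπ F q hq hF h (epi_of_DB hD)).fhall
  d4 := fun F => H550.RV.r3_d4 h2 h3 hp hpπ F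
  sz := fun hp2 _ _ => absurd h2 (hp2 ▸ hpπ)
  f2 := fun hp2 _ _ => absurd h2 (hp2 ▸ hpπ)
  ree := fun _ h hD => Or.inr (H555.RV.ReeRow.ftwo_ree h2 h3 h hD).fhall

/-- R5 -/
theorem fam5 (h2 : 2 ∈ π) (h3 : 3 ∈ π) {p : ℕ} (hp : p.Prime) (hpπ : p ∉ π) :
    Fam p S (¬ DB π S) where
  psl := H574.RV.psl_all_row h2 h3 hp hpπ
  psp := H574.RV.psp_row h2 h3 hp hpπ
  psu := H554.RV.psu_row h2 h3 hp hpπ
  oOdd := H170.RV.r5_oOdd h2 h3 p hp hpπ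
  oPlus := H170.RV.r5_oPlus h2 h3 p hp hpπ
  oMinus := H170.RV.r5_oMinus h2 h3 p hp hpπ
  g2 := fun F _ _ _ _ h => H557.RV.g2_not_DB h2 h3 hp hpπ F h
  f4 := fun F => H971.RV.f4_5 h2 h3 p hp hpπ F
  e6 := fun F => H971.RV.e6_5 h2 h3 p hp hpπ F
  e7 := fun F => H971.RV.e7_5 h2 h3 p hp hpπ F
  e8 := fun F => H971.RV.e8_5 h2 h3 p hp hpπ F
  tw := fun F => H971.RV.tw_5 h2 h3 p hp hpπ F
  d4 := fun _ _ _ _ _ hq hF e => H641.RV.not_DB_d4 hp hq hF h2 h3 hpπ e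
  sz := fun hp2 _ => absurd h2 (hp2 ▸ hpπ)
  f2 := fun hp2 _ => absurd h2 (hp2 ▸ hpπ)
  ree := fun hp3 _ => absurd h3 (hp3 ▸ hpπ)

/-- the boxes -/
theorem boxes [IsSimpleGroup S] (hna : ¬ IsMulCommutative S) : Boxes π S where
  other := fun h => H171.RV.R6.rows_other h
  r1 := fun h2 _ hp hpπ hL => H537.RV.rowE_own h2 hp hpπ hL
  r2 := fun h2 _ _ hpπ hL => (fam2 h2 hpπ).elim hL
  r3 := fun h2 h3 _ hp hpπ hL => (fam3 h2 h3 hp hpπ).elim hL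
  r4 := fun h2 _ hp hpπ hL => H948.RV.r4 hna hp hL h2 hpπ
  r5 := fun h2 h3 _ hp hpπ hL => (fam5 h2 h3 hp hpπ).elim hL

end Cfsg.Agent.H959.RV
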